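import Cfsg.Agent.Lib.FischerCent.Base

set_option autoImplicit false

/-! In types M(22), M(23), M(24) the centraliser of a member is generated by its link. -/

namespace CfsgLib.FischerCent

open Subgroup
open CfsgLib.ThreeTrans (link conj_self_of_commute mul_self inv_eq)
open CfsgLib.FischerType CfsgLib.FischerUnique

variable {G : Type*} [Group G] [Finite G] {D : Set G}

theorem mem_link_group_conj (hc : Cfsg.IsThreeTranspositionClass D) (g : G) {a : G}
    (h : a ∈ closure (link D a)) : g * a * g⁻¹ ∈ closure (link D (g * a * g⁻¹)) := by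
  have h1 : g * a * g⁻¹ ∈ (closure (link D a)).map (MulAut.conj g).toMonoidHom := ⟨a, h, rfl⟩
  rw [MonoidHom.map_closure] at h1
  refine closure_mono ?_ h1
  rintro _ ⟨w, hw, rfl⟩
  exact CfsgLib.FischerType.link_conj_mem hc g hw

theorem centralizer_conj (hc : Cfsg.IsThreeTranspositionClass D) (g : G) {a : G}
    (h : centralizer {a} = closure (link D a)) :
    centralizer {g * a * g⁻¹} = closure (link D (g * a * g⁻¹)) := by
  refine le_antisymm (fun x hx => ?_) closure_link_le_centralizer
  have hx' : g⁻¹ * x * g ∈ centralizer {a} := by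
    refine mem_centralizer_singleton_iff.2 ?_
    have h1 := (CfsgLib.ThreeTrans.commute_conj_iff' g⁻¹ x (g * a * g⁻¹)).2
      (mem_centralizer_singleton_iff.1 hx)
    rw [inv_inv, show g⁻¹ * (g * a * g⁻¹) * g = a by group] at h1
    exact h1
  rw [h] at hx'
  have h2 : x ∈ (closure (link D a)).map (MulAut.conj g).toMonoidHom :=
    ⟨_, hx', by simp [mul_assoc]⟩
  rw [MonoidHom.map_closure] at h2
  refine closure_mono ?_ h2
  rintro _ ⟨w, hw, rfl⟩
  exact CfsgLib.FischerType.link_conj_mem hc g hw

variable (S : Setting D)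

include S

/-- A member lies in its link group if this holds in the image of one link. -/
theorem mem_closure_link_of_img (hl : HasLines D) {d : G} (hd : d ∈ D)
    (hpair : ∃ u ∈ link D d, ∃ v ∈ link D d, ¬ Commute u v)
    (himg : ∀ q ∈ img D d, q ∈ closure (link (img D d) q)) {x : G} (hx : x ∈ D) :
    x ∈ closure (link D x) := by
  obtain ⟨u, hu, -⟩ := id hpair
  suffices hmem : u ∈ closure (link D u) by
    obtain ⟨g, rfl⟩ := CfsgLib.ThreeTransp.class_conj S.cls hu.1 hx
    exact mem_link_group_conj S.cls g hmem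
  set H := closure (link D d) with hH
  set T : Set ↥H := {y | (y : G) ∈ link D d ∩ link D u} with hT
  have hle : closure (link (img D d) (toImg D d hu)) ≤ (closure T).map (QuotientGroup.mk' (center ↥H)) := by
    refine (closure_le _).2 ?_
    rintro q ⟨hq, hne, hcomm⟩
    obtain ⟨w, hw, rfl⟩ := exists_toImg hq
    exact ⟨⟨w, subset_closure hw⟩, subset_closure ⟨hw, hw.1, fun h => hne (by subst h; rfl),
      commute_of_toImg S.cls.1 hu hw hcomm⟩, rfl⟩
  obtain ⟨k, hk, hku⟩ := hle (himg _ (toImg_mem hu))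
  have hkmem : (k : G) ∈ closure (link D u) := by
    have h1 : (k : G) ∈ (closure T).map H.subtype := ⟨k, hk, rfl⟩
    rw [MonoidHom.map_closure] at h1
    refine closure_mono ?_ h1
    rintro _ ⟨y, hy, rfl⟩
    exact hy.2
  have hz : k⁻¹ * ⟨u, subset_closure hu⟩ ∈ center ↥H := QuotientGroup.eq.1 hku
  have hdu : d ∈ closure (link D u) := subset_closure ⟨hd, hu.2.1.symm, hu.2.2.symm⟩
  have e1 : u = (k : G) * ((k⁻¹ * ⟨u, subset_closure hu⟩ : ↥H) : G) := by simp
  rcases center_link_le S hl hd hu hz with h1 | h1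
  · rw [h1, mul_one] at e1
    exact (congrArg (· ∈ closure (link D u)) e1).mpr hkmem
  · rw [h1] at e1
    exact (congrArg (· ∈ closure (link D u)) e1).mpr (mul_mem hkmem hdu)

/-- The centraliser, from the action of automorphisms on one link. -/
theorem centralizer_eq_of_innerOnLink (hl : HasLines D)
    (hmem : ∀ x ∈ D, x ∈ closure (link D x)) {d w : G} (hd : d ∈ D) (hw : w ∈ link D d)
    (hI : InnerOnLink D d) {x : G} (hx : x ∈ D) : centralizer {x} = closure (link D x) := by
  obtain ⟨g, rfl⟩ := CfsgLib.ThreeTransp.class_conj S.cls hd hx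
  refine centralizer_conj S.cls g ?_
  rw [centralizer_eq_nbhd S hl hd hw hI, nbhd]
  exact le_antisymm ((closure_le _).2 fun e he => he.elim (fun h => h ▸ hmem d hd)
    fun h => subset_closure h) (closure_mono (Set.subset_insert _ _))

/-- In type M(22) the centraliser of a member is generated by its link. -/
theorem centralizer_eq_of_typeM22 (h : Cfsg.IsOfTypeM22 G D) {x : G} (hx : x ∈ D) :
    centralizer {x} = closure (link D x) := by
  obtain ⟨d, hd, hI⟩ := innerOnLink_of_typeM22 S h
  obtain ⟨d', hd', ⟨u, hu, -⟩, -⟩ := exists_data_of_typeM22 S h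
  obtain ⟨g, rfl⟩ := CfsgLib.ThreeTransp.class_conj S.cls hd' hd
  exact centralizer_eq_of_innerOnLink S (S.good_of_typeM22 h).lines
    (fun y hy => (link_group_of_typeM22 S h hy).1) hd
    (CfsgLib.FischerType.link_conj_mem S.cls g hu) hI hx

/-- In type M(22) class-preserving automorphisms with inner cube are inner. -/
theorem outThree_of_typeM22 (h : Cfsg.IsOfTypeM22 G D) : OutThree D := by
  obtain ⟨d, hd, hI⟩ := innerOnLink_of_typeM22 S h
  obtain ⟨d', hd', ⟨u, hu, -⟩, -⟩ := exists_data_of_typeM22 S h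
  obtain ⟨g, rfl⟩ := CfsgLib.ThreeTransp.class_conj S.cls hd' hd
  exact outThree_of_innerOnLink S (S.good_of_typeM22 h).lines hd
    (CfsgLib.FischerType.link_conj_mem S.cls g hu) hI (centralizer_eq_of_typeM22 S h hd)

/-- The image setting in type M(23). -/
theorem imgData_of_typeM23 (h : Cfsg.IsOfTypeM23 G D) :
    ∃ d ∈ D, (∃ u ∈ link D d, ∃ v ∈ link D d, ¬ Commute u v) ∧ Setting (img D d) ∧
      Cfsg.IsOfTypeM22 (Quot D d) (img D d) := by
  obtain ⟨-, d, hd, c, hc, hdc, h22, c₃, hc₃, hproj⟩ := h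
  exact ⟨d, hd, pair_of_typeM22_img h22,
    imgSetting S hd hc hdc (not_solvable_of_isProj (by norm_num) hc₃ hproj) h22, h22⟩

/-- In type M(23) a member lies in its link group. -/
theorem mem_closure_link_of_typeM23 (h : Cfsg.IsOfTypeM23 G D) {x : G} (hx : x ∈ D) :
    x ∈ closure (link D x) := by
  obtain ⟨d, hd, hpair, SX, hX⟩ := imgData_of_typeM23 S h
  exact mem_closure_link_of_img S (S.good_of_typeM23 h).lines hd hpair
    (fun q hq => (link_group_of_typeM22 SX hX hq).1) hx

/-- In type M(23) the centraliser of a member is generated by its link. -/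
theorem centralizer_eq_of_typeM23 (h : Cfsg.IsOfTypeM23 G D) {x : G} (hx : x ∈ D) :
    centralizer {x} = closure (link D x) := by
  obtain ⟨d, hd, hpair, SX, hX⟩ := imgData_of_typeM23 S h
  obtain ⟨u, hu, -⟩ := id hpair
  exact centralizer_eq_of_innerOnLink S (S.good_of_typeM23 h).lines
    (fun y hy => mem_closure_link_of_typeM23 S h hy) hd hu
    (innerOnLink_of_img S hd hpair (outThree_of_typeM22 SX hX)) hx

/-- In type M(23) class-preserving automorphisms with inner cube are inner. -/
theorem outThree_of_typeM23 (h : Cfsg.IsOfTypeM23 G D) : OutThree D := by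
  obtain ⟨d, hd, hpair, SX, hX⟩ := imgData_of_typeM23 S h
  obtain ⟨u, hu, -⟩ := id hpair
  exact outThree_of_innerOnLink S (S.good_of_typeM23 h).lines hd hu
    (innerOnLink_of_img S hd hpair (outThree_of_typeM22 SX hX)) (centralizer_eq_of_typeM23 S h hd)

variable {d₀ : G}

/-- In type M(24) a member lies in its link group. -/
theorem mem_closure_link_of_typeM24 (h : Cfsg.IsOfTypeM24 G D) (hd₀ : d₀ ∈ D)
    (h3 : Cfsg.pCore 3 ↥(closure (link D d₀)) ≤ center ↥(closure (link D d₀)))
    (h2 : Cfsg.pCore 2 ↥(closure (link D d₀)) ≤ center ↥(closure (link D d₀))) {x : G} (hx : x ∈ D) :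
    x ∈ closure (link D x) := by
  obtain ⟨d, hd, SX, hX⟩ := S.quotSetting_of_typeM24 h hd₀ h3 h2
  exact mem_closure_link_of_img S (S.good_of_typeM24 h hd₀ h3 h2).lines hd (pair_of_typeM23_img hX)
    (fun q hq => mem_closure_link_of_typeM23 SX hX hq) hx

/-- In type M(24) the centraliser of a member is generated by its link. -/
theorem centralizer_eq_of_typeM24 (h : Cfsg.IsOfTypeM24 G D) (hd₀ : d₀ ∈ D)
    (h3 : Cfsg.pCore 3 ↥(closure (link D d₀)) ≤ center ↥(closure (link D d₀)))
    (h2 : Cfsg.pCore 2 ↥(closure (link D d₀)) ≤ center ↥(closure (link D d₀))) {x : G} (hx : x ∈ D) :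
    centralizer {x} = closure (link D x) := by
  obtain ⟨d, hd, SX, hX⟩ := S.quotSetting_of_typeM24 h hd₀ h3 h2
  have hpair := pair_of_typeM23_img hX
  obtain ⟨u, hu, -⟩ := id hpair
  exact centralizer_eq_of_innerOnLink S (S.good_of_typeM24 h hd₀ h3 h2).lines
    (fun y hy => mem_closure_link_of_typeM24 S h hd₀ h3 h2 hy) hd hu
    (innerOnLink_of_img S hd hpair (outThree_of_typeM23 SX hX)) hx

end CfsgLib.FischerCent
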