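import Cfsg.Agent.Lib.FischerType.Sym

set_option autoImplicit false

/-! The centraliser of a member of a class of 3-transpositions is generated by the members
commuting with it, as soon as it has no further elements of order three. -/

namespace CfsgLib.FischerCent

open Subgroup
open CfsgLib.ThreeTrans (link commute_conj_iff' conj_self_of_commute mul_self inv_eq braid cube_eq_one)

variable {G : Type*} [Group G] {D : Set G}

/-- The group generated by the members commuting with `d`. -/
def nbhd (D : Set G) (d : G) : Subgroup G := closure (insert d (link D d))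

theorem mem_nbhd {d e : G} (he : e ∈ D) (h : Commute d e) : e ∈ nbhd D d := by
  by_cases hed : e = d
  · exact subset_closure (Or.inl hed)
  · exact subset_closure (Or.inr ⟨he, hed, h⟩)

theorem swap_conj (hset : Cfsg.IsThreeTranspositionSet D) {p q : G} (hp : p ∈ D) (hq : q ∈ D)
    (h : ¬ Commute p q) : (p * q * p) * p * (p * q * p) = q ∧ (p * q * p) * q * (p * q * p) = p := by
  have h1 := CfsgLib.FischerType.exists_conj_self (x := p * q * p) hset hp hq h rfl
  have h2 := CfsgLib.FischerType.exists_conj_self (x := q * p * q) hset hq hp (fun h' => h h'.symm) rfl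
  rw [← braid hset hp hq h] at h2
  exact ⟨h1, h2⟩

theorem third_sq (hset : Cfsg.IsThreeTranspositionSet D) {p q : G} (hp : p ∈ D) (hq : q ∈ D) :
    (p * q * p) * (p * q * p) = 1 := by
  calc (p * q * p) * (p * q * p) = p * q * (p * p) * q * p := by simp only [mul_assoc]
    _ = p * (q * q) * p := by rw [mul_self hset hp]; simp only [mul_one, mul_assoc]
    _ = 1 := by rw [mul_self hset hq, mul_one, mul_self hset hp]

theorem third_mem (hc : Cfsg.IsThreeTranspositionClass D) {p q : G} (hp : p ∈ D) (hq : q ∈ D) :
    p * q * p ∈ D := CfsgLib.FischerType.conj_mem hc hp hq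

variable (hc : Cfsg.IsThreeTranspositionClass D) {d : G} (hd : d ∈ D)
  (hcube : ∀ g : G, Commute g d → g ^ 3 = 1 → g ∈ nbhd D d)

include hc hd hcube

/-- The loop around a triangle through `d`. -/
theorem triangle_mem {y w : G} (hy : y ∈ D) (hw : w ∈ D) (hdy : ¬ Commute d y)
    (hdw : ¬ Commute d w) (hyw : ¬ Commute y w) :
    (d * w * d) * (y * w * y) * (d * y * d) ∈ nbhd D d := by
  have hset := hc.1
  have d2 := mul_self hset hd
  have y2 := mul_self hset hy
  have w2 := mul_self hset hw
  set a := d * y * d with ha
  set b := y * w * y with hb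
  set c := d * w * d with hcdef
  have hcom : Commute (c * b * a) d := by
    show (c * b * a) * d = d * (c * b * a)
    have e1 := (swap_conj hset hd hy hdy).1
    have e2 := (swap_conj hset hy hw hyw).1
    have e3 := (swap_conj hset hd hw hdw).2
    have a2 : a * a = 1 := third_sq hset hd hy
    have b2 : b * b = 1 := third_sq hset hy hw
    have c2 : c * c = 1 := third_sq hset hd hw
    have h : c * (b * (a * d * a) * b) * c = d := by rw [e1, e2, e3]
    calc c * b * a * d = c * (b * (a * d * a) * b) * c * (c * b * a) := by
          calc c * b * a * d = c * b * a * d * (a * (b * (c * c) * b) * a) := by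
                rw [c2, mul_one, b2, mul_one, a2, mul_one]
            _ = _ := by simp only [mul_assoc]
      _ = d * (c * b * a) := by rw [h]
  by_cases hwa : Commute w a
  · have e : b * c * b = a := by
      calc b * c * b = (w * y * w) * (w * d * w) * (w * y * w) := by
            rw [hb, hcdef, braid hset hy hw hyw, braid hset hd hw hdw]
        _ = w * y * (w * w) * d * (w * w) * y * w := by simp only [mul_assoc]
        _ = w * (y * d * y) * w := by rw [w2]; simp only [mul_one, mul_assoc]
        _ = w * a * w := by rw [← braid hset hd hy hdy]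
        _ = a := by rw [hwa.eq, mul_assoc, w2, mul_one]
    have b2 : b * b = 1 := third_sq hset hy hw
    have c2 : c * c = 1 := third_sq hset hd hw
    have hL : c * b * a = b := by
      calc c * b * a = c * (b * b) * c * b := by rw [← e]; simp only [mul_assoc]
        _ = b := by rw [b2, mul_one, c2, one_mul]
    rw [hL] at hcom ⊢
    exact mem_nbhd (third_mem hc hy hw) hcom.symm
  · set t := w * a with ht
    set s := d * t * d with hs
    have ht3 : t ^ 3 = 1 := cube_eq_one hset hw (third_mem hc hd hy) hwa
    have hs3 : s ^ 3 = 1 := by
      calc s ^ 3 = d * t * (d * d) * t * (d * d) * t * d := by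
            rw [hs, pow_succ, pow_two]; simp only [mul_assoc]
        _ = d * t ^ 3 * d := by rw [d2, pow_succ, pow_two]; simp only [mul_one, mul_assoc]
        _ = 1 := by rw [ht3, mul_one, d2]
    have hts : Commute t s := by
      show t * s = s * t
      have l : t * s = w * d * y * w * d * y := by
        calc t * s = w * d * y * (d * d) * w * d * y * (d * d) := by
              rw [hs, ht, ha]; simp only [mul_assoc]
          _ = _ := by rw [d2]; simp only [mul_one, mul_assoc]
      have r : s * t = w * d * y * w * d * y := by
        calc s * t = d * w * d * y * (d * d) * w * d * y * d := by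
              rw [hs, ht, ha]; simp only [mul_assoc]
          _ = (d * w * d) * (y * w * d * y * d) := by rw [d2]; simp only [mul_one, mul_assoc]
          _ = (w * d * w) * (y * w * d * y * d) := by rw [braid hset hd hw hdw]
          _ = w * d * (w * y * w) * (d * y * d) := by simp only [mul_assoc]
          _ = w * d * (y * w * y) * (y * d * y) := by
              rw [← braid hset hy hw hyw, braid hset hd hy hdy]
          _ = w * d * y * w * (y * y) * d * y := by simp only [mul_assoc]
          _ = _ := by rw [y2, mul_one]
      rw [l, r]
    have hz : c * b * a * d = d * (t * s) * d := by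
      symm
      calc d * (t * s) * d = d * w * d * y * (d * d) * w * d * y * (d * d) * d := by
            rw [hs, ht, ha]; simp only [mul_assoc]
        _ = d * w * d * (y * w) * (d * y * d) := by rw [d2]; simp only [mul_one, mul_assoc]
        _ = d * w * d * (y * w) * (y * d * y) := by rw [braid hset hd hy hdy]
        _ = c * b * (d * y) := by rw [hcdef, hb]; simp only [mul_assoc]
        _ = c * b * (a * d) := by
            congr 1
            rw [ha, mul_assoc (d * y) d d, d2, mul_one]
        _ = c * b * a * d := by simp only [mul_assoc]
    have hmem : c * b * a * d ∈ nbhd D d := by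
      refine hcube _ (hcom.mul_left (Commute.refl d)) ?_
      rw [hz]
      calc (d * (t * s) * d) ^ 3 = d * (t * s) * (d * d) * (t * s) * (d * d) * (t * s) * d := by
            rw [pow_succ, pow_two]; simp only [mul_assoc]
        _ = d * (t * s) ^ 3 * d := by rw [d2, pow_succ, pow_two]; simp only [mul_one, mul_assoc]
        _ = 1 := by rw [hts.mul_pow, ht3, hs3, one_mul, mul_one, d2]
    have := mul_mem hmem (mem_nbhd hd (Commute.refl d))
    rwa [mul_assoc, d2, mul_one] at this

/-- Two ways of reaching a neighbour agree. -/
theorem square_mem {u v w : G} (hu : u ∈ D) (hv : v ∈ D) (hw : w ∈ D) (hdw : Commute d w)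
    (hdu : ¬ Commute d u) (hdv : ¬ Commute d v) (hwu : ¬ Commute w u) (hwv : ¬ Commute w v) :
    (d * v * d) * (v * w * v) * (u * w * u) * (d * u * d) ∈ nbhd D d := by
  have hset := hc.1
  have key : ∀ {p q : G}, p ∈ D → q ∈ D → ¬ Commute d p → ¬ Commute d q → ¬ Commute w p →
      ¬ Commute w q → ¬ Commute p q →
      (d * q * d) * (q * w * q) * (p * w * p) * (d * p * d) ∈ nbhd D d := by
    intro p q hp hq hdp hdq hwp hwq hpq
    set t := d * p * d with ht
    have t2 : t * t = 1 := third_sq hset hd hp
    have tinv : t⁻¹ = t := inv_eq_of_mul_eq_one_left t2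
    have m2 : (p * q * p) * (p * q * p) = 1 := third_sq hset hp hq
    have h1 := triangle_mem hc hd hcube hp hq hdp hdq hpq
    have htp : t * p * t = d := (swap_conj hset hd hp hdp).2
    have tw : t * w * t ∈ D := third_mem hc (third_mem hc hd hp) hw
    have tq : t * q * t ∈ D := third_mem hc (third_mem hc hd hp) hq
    have nc : ∀ {x y : G}, ¬ Commute x y → ¬ Commute (t * x * t) (t * y * t) := fun {x y} h h' => by
      refine h ((commute_conj_iff' t x y).1 ?_)
      rwa [tinv]
    have h2 := triangle_mem hc hd hcube tw tq (htp ▸ nc fun h => hwp h.symm) (htp ▸ nc hpq) (nc hwq)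
    have e2 : (d * (t * q * t) * d) * ((t * w * t) * (t * q * t) * (t * w * t)) *
        (d * (t * w * t) * d) = t * ((p * q * p) * (q * w * q) * (p * w * p)) * t := by
      rw [← htp, braid hset hq hw fun h => hwq h.symm]
      calc _ = t * p * (t * t) * q * (t * t) * p * (t * t) * w * (t * t) * q * (t * t) * w * (t * t) *
            p * (t * t) * w * (t * t) * p * t := by simp only [mul_assoc]
        _ = _ := by rw [t2]; simp only [mul_one, mul_assoc]
    rw [e2] at h2
    have e : (d * q * d) * (q * w * q) * (p * w * p) * t =
        ((d * q * d) * (p * q * p) * t) * (t * ((p * q * p) * (q * w * q) * (p * w * p)) * t) := by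
      symm
      calc _ = (d * q * d) * (p * q * p) * (t * t) * (p * q * p) * (q * w * q) * (p * w * p) * t := by
            simp only [mul_assoc]
        _ = (d * q * d) * ((p * q * p) * (p * q * p)) * (q * w * q) * (p * w * p) * t := by
            rw [t2]; simp only [mul_one, mul_assoc]
        _ = _ := by rw [m2, mul_one]
    rw [e]
    exact mul_mem h1 h2
  by_cases huv : Commute u v
  · by_cases he : u = v
    · subst he
      rw [mul_assoc (d * u * d), third_sq hset hu hw, mul_one, third_sq hset hd hu]
      exact one_mem _
    · set p := d * u * d with hp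
      have hpD : p ∈ D := third_mem hc hd hu
      have e1 := (swap_conj hset hd hu hdu).1
      have e2 := (swap_conj hset hd hu hdu).2
      have hdp : ¬ Commute d p := fun h => hdu <| by
        have h3 : p * d * p = d := by rw [h.symm.eq, mul_assoc, third_sq hset hd hu, mul_one]
        rw [e1] at h3
        rw [h3]
      have hup : ¬ Commute u p := fun h => hdu <| by
        have h3 : p * u * p = u := by rw [h.symm.eq, mul_assoc, third_sq hset hd hu, mul_one]
        rw [e2] at h3
        rw [h3]
      have dconj : ∀ {x y : G}, Commute (d * x * d) (d * y * d) → Commute x y := fun {x y} h =>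
        (commute_conj_iff' d x y).1 (by rwa [inv_eq hset hd])
      have uconj : ∀ {x y : G}, Commute (u * x * u) (u * y * u) → Commute x y := fun {x y} h =>
        (commute_conj_iff' u x y).1 (by rwa [inv_eq hset hu])
      have hwp : ¬ Commute w p := fun h => hwu (dconj (by
        rw [(CfsgLib.FischerType.conj_eq_self_iff hset hd).2 hdw]; exact h))
      have hvp : ¬ Commute v p := fun h => hdv (uconj (by
        rw [← braid hset hd hu hdu, (CfsgLib.FischerType.conj_eq_self_iff hset hu).2 huv]
        exact h.symm))
      have h1 := key hu hpD hdu hdp hwu hwp hup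
      have h2 := key hpD hv hdp hdv hwp hwv fun h => hvp h.symm
      have e : (d * v * d) * (v * w * v) * (u * w * u) * (d * u * d) =
          ((d * v * d) * (v * w * v) * (p * w * p) * (d * p * d)) *
            ((d * p * d) * (p * w * p) * (u * w * u) * (d * u * d)) := by
        symm
        calc _ = (d * v * d) * (v * w * v) * (p * w * p) * ((d * p * d) * (d * p * d)) * (p * w * p) *
              (u * w * u) * (d * u * d) := by simp only [mul_assoc]
          _ = (d * v * d) * (v * w * v) * ((p * w * p) * (p * w * p)) * (u * w * u) * (d * u * d) := by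
              rw [third_sq hset hd hpD, mul_one]; simp only [mul_assoc]
          _ = _ := by rw [third_sq hset hpD hw, mul_one]
      rw [e]
      exact mul_mem h2 h1
  · exact key hu hv hdu hdv hwu hwv huv

/-- The centraliser is generated by the member and its link. -/
theorem centralizer_le_nbhd {g : G} (hg : Commute g d) : g ∈ nbhd D d := by
  have hset := hc.1
  have d2 := mul_self hset hd
  obtain ⟨-, -, hgen⟩ := CfsgLib.ThreeTransp.class_to_group hc
  let Good : G → Prop := fun g => g ∈ nbhd D d ∨
    (∃ y ∈ D, ¬ Commute d y ∧ ∃ k ∈ nbhd D d, g = (d * y * d) * k) ∨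
    ∃ w ∈ D, Commute d w ∧ w ≠ d ∧ ∃ u ∈ D, ¬ Commute d u ∧ ¬ Commute w u ∧
      ∃ k ∈ nbhd D d, g = (u * w * u) * (d * u * d) * k
  have conjm : ∀ {e r x : G}, e ∈ D → r * d * r⁻¹ = x → Commute x e → r⁻¹ * e * r ∈ nbhd D d := by
    intro e r x he hr hxe
    refine mem_nbhd ?_ ?_
    · have := CfsgLib.ThreeTransp.class_conj_mem hc r⁻¹ he
      rwa [inv_inv] at this
    · have := (commute_conj_iff' r⁻¹ x e).2 hxe
      rw [← hr, inv_inv] at this
      rwa [show r⁻¹ * (r * d * r⁻¹) * r = d by group] at this
  have step : ∀ e ∈ D, ∀ g, Good g → Good (e * g) := by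
    intro e he g hg
    have e2 := mul_self hset he
    rcases hg with hk | ⟨y, hy, hdy, k, hk, rfl⟩ | ⟨w, hw, hdw, hwd, u, hu, hdu, hwu, k, hk, rfl⟩
    · by_cases hde : Commute d e
      · exact Or.inl (mul_mem (mem_nbhd he hde) hk)
      · refine Or.inr (Or.inl ⟨d * e * d, third_mem hc hd he, fun h => hde ?_, g, hk, ?_⟩)
        · refine (commute_conj_iff' d d e).1 ?_
          rw [inv_eq hset hd, d2, one_mul]
          exact h
        · congr 1
          calc e = (d * d) * e * (d * d) := by rw [d2, one_mul, mul_one]
            _ = _ := by simp only [mul_assoc]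
    · set t := d * y * d with ht
      have t2 : t * t = 1 := third_sq hset hd hy
      have tinv : t⁻¹ = t := inv_eq_of_mul_eq_one_left t2
      have htd : t * d * t⁻¹ = y := by rw [tinv]; exact (swap_conj hset hd hy hdy).1
      by_cases hey : Commute y e
      · refine Or.inr (Or.inl ⟨y, hy, hdy, t⁻¹ * e * t * k, mul_mem (conjm he htd hey) hk, ?_⟩)
        rw [← ht]; group
      · set y' := y * e * y with hy'
        have y'D : y' ∈ D := third_mem hc hy he
        have y2 := mul_self hset hy
        have hz : y * y' * y = e := by
          calc y * y' * y = (y * y) * e * (y * y) := by rw [hy']; simp only [mul_assoc]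
            _ = e := by rw [y2, one_mul, mul_one]
        have hyy' : ¬ Commute y y' := fun h => hey <| (commute_conj_iff' y y e).1 (by
          rw [inv_eq hset hy, y2, one_mul]; exact h)
        by_cases hdy' : Commute d y'
        · by_cases hyd : y' = d
          · have : e = t := by
              rw [← hz, hyd, ht]
              exact (braid hset hd hy hdy).symm
            refine Or.inl ?_
            rw [this, ← mul_assoc, t2, one_mul]
            exact hk
          · refine Or.inr (Or.inr ⟨y', y'D, hdy', hyd, y, hy, hdy, fun h => hyy' h.symm, k, hk, ?_⟩)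
            rw [hz, mul_assoc e, ← ht]
        · have h1 := triangle_mem hc hd hcube hy y'D hdy hdy' hyy'
          rw [hz] at h1
          refine Or.inr (Or.inl ⟨y', y'D, hdy', (d * y' * d) * e * t * k, mul_mem h1 hk, ?_⟩)
          symm
          calc d * y' * d * (d * y' * d * e * t * k) =
              ((d * y' * d) * (d * y' * d)) * (e * (t * k)) := by simp only [mul_assoc]
            _ = _ := by rw [third_sq hset hd y'D, one_mul]
    · set z := u * w * u with hzdef
      set t := d * u * d with ht
      have zu : z * u * z⁻¹ = w := by
        rw [inv_eq_of_mul_eq_one_left (third_sq hset hu hw)]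
        exact (swap_conj hset hu hw fun h => hwu h.symm).1
      have tu : t * d * t⁻¹ = u := by
        rw [inv_eq_of_mul_eq_one_left (third_sq hset hd hu)]
        exact (swap_conj hset hd hu hdu).1
      have hrd : (z * t) * d * (z * t)⁻¹ = w := by
        rw [← zu, ← tu]; group
      by_cases hew : Commute w e
      · refine Or.inr (Or.inr ⟨w, hw, hdw, hwd, u, hu, hdu, hwu, (z * t)⁻¹ * e * (z * t) * k,
          mul_mem (conjm he hrd hew) hk, ?_⟩)
        rw [← hzdef, ← ht]
        group
      · set y' := w * e * w with hy'
        have y'D : y' ∈ D := third_mem hc hw he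
        have w2 := mul_self hset hw
        have hz : w * y' * w = e := by
          calc w * y' * w = (w * w) * e * (w * w) := by rw [hy']; simp only [mul_assoc]
            _ = e := by rw [w2, one_mul, mul_one]
        have hwy' : ¬ Commute w y' := fun h => hew <| (commute_conj_iff' w w e).1 (by
          rw [inv_eq hset hw, w2, one_mul]; exact h)
        by_cases hdy' : Commute d y'
        · have hde : Commute d e := hz ▸ (hdw.mul_right hdy').mul_right hdw
          have einv := inv_eq hset he
          have hew' : e * w * e = y' := by rw [hy', braid hset hw he hew]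
          have hy'd : y' ≠ d := fun h => hwy' (by rw [h]; exact hdw.symm)
          have hed := (CfsgLib.FischerType.conj_eq_self_iff hset he).2 hde.symm
          refine Or.inr (Or.inr ⟨y', y'D, hdy', hy'd, e * u * e, third_mem hc he hu, fun h => hdu ?_,
            fun h => hwu ?_, e * k, mul_mem (mem_nbhd he hde) hk, ?_⟩)
          · refine (commute_conj_iff' e d u).1 ?_
            rwa [einv, hed]
          · refine (commute_conj_iff' e w u).1 ?_
            rwa [einv, hew']
          · rw [← hew', hzdef, ht]
            symm
            calc e * u * e * (e * w * e) * (e * u * e) * (d * (e * u * e) * d) * (e * k)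
                = e * u * (e * e) * w * (e * e) * u * e * (d * (e * u * e) * d) * e * k := by
                  simp only [mul_assoc]
              _ = e * u * w * u * (e * d * e) * u * (e * d * e) * k := by
                  rw [e2]; simp only [mul_one, mul_assoc]
              _ = _ := by rw [hed]; simp only [mul_assoc]
        · have h1 := square_mem hc hd hcube hu y'D hw hdw hdu hdy' hwu hwy'
          have hz' : y' * w * y' = e := by rw [braid hset y'D hw fun h => hwy' h.symm, hz]
          rw [hz'] at h1
          refine Or.inr (Or.inl ⟨y', y'D, hdy', (d * y' * d) * e * z * t * k, mul_mem h1 hk, ?_⟩)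
          symm
          calc d * y' * d * (d * y' * d * e * z * t * k) =
              ((d * y' * d) * (d * y' * d)) * (e * (z * t * k)) := by simp only [mul_assoc]
            _ = _ := by rw [third_sq hset hd y'D, one_mul]
  have all : ∀ x : G, ∀ h, Good h → Good (x * h) := by
    intro x
    have hx : x ∈ closure D := hgen ▸ mem_top x
    induction hx using closure_induction'' with
    | mem e he => exact step e he
    | inv_mem e he => rw [inv_eq hset he]; exact step e he
    | one => intro h hh; rwa [one_mul]
    | mul m n _ _ ihm ihn => intro h hh; rw [mul_assoc]; exact ihm _ (ihn h hh)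
  have hgood := all g 1 (Or.inl (one_mem _))
  rw [mul_one] at hgood
  have hfix : g * d * g⁻¹ = d := conj_self_of_commute hg
  have kfix : ∀ k ∈ nbhd D d, k * d * k⁻¹ = d := fun k hk => conj_self_of_commute <| by
    have hle : nbhd D d ≤ centralizer {d} := (closure_le _).2 fun e he => by
      refine mem_centralizer_singleton_iff.2 ?_
      rcases he with rfl | he
      · rfl
      · exact he.2.2.eq.symm
    exact mem_centralizer_singleton_iff.1 (hle hk)
  have tfix : ∀ {y : G}, y ∈ D → ¬ Commute d y → (d * y * d) * d * (d * y * d)⁻¹ = y := fun hy h => by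
    rw [inv_eq_of_mul_eq_one_left (third_sq hset hd hy)]
    exact (swap_conj hset hd hy h).1
  rcases hgood with h | ⟨y, hy, hdy, k, hk, rfl⟩ | ⟨w, hw, hdw, hwd, u, hu, hdu, hwu, k, hk, rfl⟩
  · exact h
  · refine absurd ?_ hdy
    suffices y = d by rw [this]
    rw [← hfix, mul_inv_rev]
    rw [show d * y * d * k * d * (k⁻¹ * (d * y * d)⁻¹) = d * y * d * (k * d * k⁻¹) * (d * y * d)⁻¹ by
      simp only [mul_assoc], kfix k hk, tfix hy hdy]
  · refine absurd ?_ hwd
    have h1 : (u * w * u) * (d * u * d) * k * d * ((u * w * u) * (d * u * d) * k)⁻¹ =
        (u * w * u) * ((d * u * d) * (k * d * k⁻¹) * (d * u * d)⁻¹) * (u * w * u)⁻¹ := by group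
    rw [← hfix, h1, kfix k hk, tfix hu hdu, inv_eq_of_mul_eq_one_left (third_sq hset hu hw)]
    exact (swap_conj hset hu hw fun h => hwu h.symm).1.symm

end CfsgLib.FischerCent
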