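import Cfsg.Agent.Lib.FischerUnique.Perfect
import Cfsg.Agent.Lib.FischerUnique.Step
import Cfsg.Agent.Lib.FischerCent.Schreier

set_option autoImplicit false

/-! Automorphisms with inner cube: from the link of a member to the whole group. -/

namespace CfsgLib.FischerCent

open Subgroup
open CfsgLib.ThreeTrans (link conj_self_of_commute mul_self inv_eq)
open CfsgLib.FischerType CfsgLib.FischerUnique

variable {G : Type*} [Group G] {D : Set G}

/-- Automorphisms preserving the class with inner cube are inner. -/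
def OutThree (D : Set G) : Prop :=
  ∀ ε : MulAut G, (∀ x ∈ D, ε x ∈ D) → (∃ v, ε ^ 3 = MulAut.conj v) → ∃ g, ε = MulAut.conj g

/-- Automorphisms fixing `d` with cube inner by the link group act on the link as inner ones. -/
def InnerOnLink (D : Set G) (d : G) : Prop :=
  ∀ ε : MulAut G, (∀ x ∈ D, ε x ∈ D) → ε d = d →
    ∀ v ∈ closure (link D d), ε ^ 3 = MulAut.conj v →
      ∃ h ∈ closure (link D d), ∀ w ∈ link D d, ε w = h * w * h⁻¹

variable [Finite G]

/-- The automorphism of the image of a link. -/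
theorem exists_imgAut {d : G} (ε : MulAut G) (hpres : ∀ x ∈ D, ε x ∈ D) (hfix : ε d = d)
    {v : G} (hv : v ∈ closure (link D d)) (h3 : ε ^ 3 = MulAut.conj v) :
    ∃ eb : MulAut (Quot D d), (∀ q ∈ img D d, eb q ∈ img D d) ∧
      (∀ (w : G) (hw : w ∈ link D d),
        eb (toImg D d hw) = toImg D d (map_mem_link ε hpres hfix hw)) ∧
      eb ^ 3 = MulAut.conj (QuotientGroup.mk (⟨v, hv⟩ : ↥(closure (link D d)))) := by
  set H := closure (link D d) with hH
  have himage : ε '' link D d = link D d :=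
    Set.eq_of_subset_of_ncard_le (by rintro _ ⟨w, hw, rfl⟩; exact map_mem_link ε hpres hfix hw)
      (Set.ncard_image_of_injective _ ε.injective).ge (Set.toFinite _)
  have hmap : H.map ε.toMonoidHom = H := by
    rw [hH, MonoidHom.map_closure]
    exact congrArg Subgroup.closure himage
  let e : ↥H ≃* ↥H := (MulEquiv.subgroupMap ε H).trans (MulEquiv.subgroupCongr hmap)
  have he : ∀ x : ↥H, (e x : G) = ε x := fun x => rfl
  have hce : (center ↥H).map e.toMonoidHom = center ↥H := by
    refine le_antisymm ?_ fun x hx => ?_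
    · rintro _ ⟨x, hx, rfl⟩
      refine mem_center_iff.2 fun y => ?_
      obtain ⟨y, rfl⟩ := e.surjective y
      show e y * e x = e x * e y
      rw [← map_mul, ← map_mul, mem_center_iff.1 hx y]
    · refine ⟨e.symm x, mem_center_iff.2 fun y => e.injective ?_, e.apply_symm_apply x⟩
      rw [map_mul, map_mul, e.apply_symm_apply, mem_center_iff.1 hx (e y)]
  let eb : MulAut (Quot D d) := QuotientGroup.congr (center ↥H) (center ↥H) e hce
  have heb : ∀ x : ↥H, eb (QuotientGroup.mk x) = QuotientGroup.mk (e x) := fun x => rfl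
  refine ⟨eb, fun q hq => ?_, fun w hw => rfl, ?_⟩
  · obtain ⟨w, hw, rfl⟩ := exists_toImg hq
    exact toImg_mem (map_mem_link ε hpres hfix hw)
  · refine MulEquiv.ext fun q => ?_
    obtain ⟨x, rfl⟩ := QuotientGroup.mk_surjective q
    rw [pow_succ, pow_two, MulAut.mul_apply, MulAut.mul_apply, heb, heb, heb, MulAut.conj_apply,
      ← QuotientGroup.mk_inv, ← QuotientGroup.mk_mul, ← QuotientGroup.mk_mul]
    refine congrArg _ (Subtype.ext ?_)
    rw [he, he, he, ← MulAut.mul_apply, ← MulAut.mul_apply, ← pow_two, ← pow_succ, h3]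
    rfl

variable (S : Setting D)

include S

/-- From the image of the link to the link. -/
theorem innerOnLink_of_img {d : G} (hd : d ∈ D)
    (hpair : ∃ u ∈ link D d, ∃ v ∈ link D d, ¬ Commute u v) (hO : OutThree (img D d)) :
    InnerOnLink D d := by
  intro ε hpres hfix v hv h3
  obtain ⟨eb, hpb, himg, hb3⟩ := exists_imgAut ε hpres hfix hv h3
  obtain ⟨q, hq⟩ := hO eb hpb ⟨_, hb3⟩
  obtain ⟨⟨h, hh⟩, rfl⟩ := QuotientGroup.mk_surjective q
  refine ⟨h, hh, fun w hw => ?_⟩
  have hm : h * w * h⁻¹ ∈ link D d :=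
    CfsgLib.ThreeTrans.linkClass_subset_link S.cls hw ⟨h, hh, rfl⟩
  refine eq_of_toImg S.cls.1 (S.noCentral hd hpair) (map_mem_link ε hpres hfix hw) hm ?_
  rw [← himg w hw, hq, MulAut.conj_apply, ← QuotientGroup.mk_inv, ← QuotientGroup.mk_mul,
    ← QuotientGroup.mk_mul]
  rfl

/-- An automorphism fixing a member and its link is trivial or that member. -/
theorem aut_eq_of_fix_link (hl : HasLines D) {d w : G} (hd : d ∈ D) (hw : w ∈ link D d)
    (ε : MulAut G) (hpres : ∀ x ∈ D, ε x ∈ D) (hfix : ε d = d) (hlink : ∀ t ∈ link D d, ε t = t) :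
    ε = 1 ∨ ε = MulAut.conj d := by
  have hset := S.cls.1
  obtain ⟨-, -, hgen⟩ := CfsgLib.ThreeTransp.class_to_group S.cls
  have key : ∀ y ∈ D, ¬ Commute d y → ε y = y ∨ ε y = d * y * d := by
    intro y hy hdy
    rcases hl d hd y hy hdy (ε y) (hpres y hy) (fun t ht => by
      rw [← hlink t ht.1]; exact (ht.2.2.2.symm.map ε).symm) with h | h | h
    · exact absurd (ε.injective (h.trans hfix.symm)) fun h' => hdy (h' ▸ Commute.refl _)
    · exact Or.inl h
    · exact Or.inr h
  have hcomm : ∀ y ∈ D, Commute d y → ε y = y := by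
    intro y hy hdy
    by_cases hyd : y = d
    · rw [hyd, hfix]
    · exact hlink y ⟨hy, hyd, hdy⟩
  have d2 := mul_self hset hd
  have hinv : ∀ y ∈ D, ε (ε y) = y := by
    intro y hy
    by_cases hdy : Commute d y
    · rw [hcomm y hy hdy, hcomm y hy hdy]
    · rcases key y hy hdy with h | h
      · rw [h, h]
      · rw [h, map_mul, map_mul, h, hfix]
        calc d * (d * y * d) * d = (d * d) * y * (d * d) := by simp only [mul_assoc]
          _ = y := by rw [d2, one_mul, mul_one]
  have hsym : Sym D fun y => ε y := ⟨hpres, hinv, fun a _ b _ => by simp only [map_mul]⟩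
  have hext : ∀ ζ : MulAut G, (∀ y ∈ D, ε y = ζ y) → ε = ζ := by
    intro ζ hζ
    refine MulEquiv.ext fun x => ?_
    have hx : x ∈ closure D := hgen ▸ mem_top x
    exact MonoidHom.eqOn_closure (f := ε.toMonoidHom) (g := ζ.toMonoidHom) hζ hx
  rcases S.extend hl hsym hd hw hfix hlink with h | h
  · exact Or.inl (hext 1 h)
  · refine Or.inr (hext _ fun y hy => ?_)
    rw [MulAut.conj_apply, inv_eq hset hd]
    by_cases hdy : Commute d y
    · rw [hcomm y hy hdy, (conj_eq_self_iff hset hd).2 hdy]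
    · exact h y hy hdy

/-- The centraliser of a member. -/
theorem centralizer_eq_nbhd (hl : HasLines D) {d w : G} (hd : d ∈ D) (hw : w ∈ link D d)
    (hI : InnerOnLink D d) : centralizer {d} = nbhd D d := by
  refine le_antisymm (fun g hg => ?_) ((closure_le _).2 fun e he => ?_)
  · refine centralizer_le_nbhd S.cls hd (fun g hgd hg3 => ?_) (mem_centralizer_singleton_iff.1 hg)
    obtain ⟨h, hh, hgh⟩ := hI (MulAut.conj g)
      (fun x hx => CfsgLib.ThreeTransp.class_conj_mem S.cls g hx) (conj_self_of_commute hgd) 1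
      (one_mem _) (by rw [← map_pow, hg3])
    have hhn : h ∈ nbhd D d := closure_mono (Set.subset_insert _ _) hh
    have hz : Commute (h⁻¹ * g) d :=
      (show Commute h d from
        mem_centralizer_singleton_iff.1 (closure_link_le_centralizer hh)).inv_left.mul_left hgd
    rcases eq_one_or_eq_of_fix_link S hl hd hw hz (fun t ht => by
      have h1 : g * t * g⁻¹ = h * t * h⁻¹ := by simpa using hgh t ht
      exact mul_inv_eq_iff_eq_mul.1 (show h⁻¹ * g * t * (h⁻¹ * g)⁻¹ = t by
        rw [show h⁻¹ * g * t * (h⁻¹ * g)⁻¹ = h⁻¹ * (g * t * g⁻¹) * h by group, h1]; group)) with h1 | h1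
    · rw [← inv_mul_eq_one.1 h1]; exact hhn
    · rw [inv_mul_eq_iff_eq_mul.1 h1]; exact mul_mem hhn (mem_nbhd hd (Commute.refl d))
  · refine mem_centralizer_singleton_iff.2 ?_
    rcases he with rfl | he
    · rfl
    · exact he.2.2.eq.symm

/-- Inner cube gives inner automorphisms. -/
theorem outThree_of_innerOnLink (hl : HasLines D) {d w : G} (hd : d ∈ D) (hw : w ∈ link D d)
    (hI : InnerOnLink D d) (hcen : centralizer {d} = closure (link D d)) : OutThree D := by
  rintro ε hpres ⟨v, h3⟩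
  obtain ⟨k, hk⟩ := CfsgLib.ThreeTransp.class_conj S.cls (hpres d hd) hd
  set ε₁ : MulAut G := MulAut.conj k * ε with hε₁
  have happ : ∀ x, ε₁ x = k * ε x * k⁻¹ := fun x => rfl
  have h3x : ∀ x, ε (ε (ε x)) = v * x * v⁻¹ := fun x => by
    rw [← MulAut.mul_apply, ← MulAut.mul_apply, ← pow_two, ← pow_succ, h3]; rfl
  set v₁ := k * ε k * ε (ε k) * v with hv₁
  have h13 : ε₁ ^ 3 = MulAut.conj v₁ := by
    refine MulEquiv.ext fun x => ?_
    rw [pow_succ, pow_two, MulAut.mul_apply, MulAut.mul_apply, MulAut.conj_apply, happ, happ, happ]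
    simp only [map_mul, map_inv, h3x, hv₁, mul_inv_rev, mul_assoc]
  have hfix : ε₁ d = d := (happ d).trans hk
  have hv₁d : v₁ ∈ closure (link D d) := by
    rw [← hcen, mem_centralizer_singleton_iff]
    refine mul_inv_eq_iff_eq_mul.1 ?_
    rw [← MulAut.conj_apply, ← h13, pow_succ, pow_two, MulAut.mul_apply, MulAut.mul_apply, hfix,
      hfix, hfix]
  obtain ⟨h, hh, hgh⟩ := hI ε₁ (fun x hx => (happ x).symm ▸
    CfsgLib.ThreeTransp.class_conj_mem S.cls k (hpres x hx)) hfix v₁ hv₁d h13
  set ε₂ : MulAut G := MulAut.conj h⁻¹ * ε₁ with hε₂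
  have hhd : Commute h d := mem_centralizer_singleton_iff.1 (closure_link_le_centralizer hh)
  have hback : ε = MulAut.conj (k⁻¹ * h) * ε₂ := by
    rw [hε₂, hε₁, map_mul, map_inv, map_inv]; group
  rcases aut_eq_of_fix_link S hl hd hw ε₂
    (fun x hx => by
      show h⁻¹ * ε₁ x * h⁻¹⁻¹ ∈ D
      exact CfsgLib.ThreeTransp.class_conj_mem S.cls _
        ((happ x).symm ▸ CfsgLib.ThreeTransp.class_conj_mem S.cls k (hpres x hx)))
    (by
      show h⁻¹ * ε₁ d * h⁻¹⁻¹ = d
      rw [hfix]; exact conj_self_of_commute hhd.inv_left)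
    (fun t ht => by
      show h⁻¹ * ε₁ t * h⁻¹⁻¹ = t
      rw [hgh t ht]; group) with h1 | h1
  · exact ⟨k⁻¹ * h, by rw [hback, h1, mul_one]⟩
  · exact ⟨k⁻¹ * h * d, by rw [hback, h1, map_mul (MulAut.conj) (k⁻¹ * h) d]⟩

end CfsgLib.FischerCent
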