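import Cfsg.Agent.Lib.FischerUnique.UnitaryAut
import Cfsg.Agent.Lib.FischerType.Line

set_option autoImplicit false

/-! Three pairwise orthogonal frames of a totally isotropic plane with the same transvection
product have the same coordinate product. -/

namespace CfsgLib.FischerCent

open CfsgLib.Classical.Herm HermSpace CfsgLib.UnitaryTransv
open CfsgLib.FischerUnique CfsgLib.FischerType
open CfsgLib.AutPSU (SUg)

variable {F V : Type*} [Field F] [AddCommGroup V] [Module F V] {H : HermSpace F V}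

theorem frame_product (h4 : Four F H.conj) (e f v : Fin 3 → V)
    (he : ∀ i j, H.h (e i) (e j) = 0) (hf : ∀ i j, H.h (f i) (e j) = if i = j then 1 else 0)
    (hev : ∀ i p, H.h (e i) (v p) = 0)
    (hne : ∀ p i (c : F), c ≠ 0 → v p ≠ c • e i) (μ : F)
    (heq : ∀ x, x + ∑ p, H.h x (v p) • v p = μ • (x + ∑ i, H.h x (e i) • e i)) :
    ∀ p, (∀ i, H.h (v p) (f i) ≠ 0) ∧
      ∀ q, H.h (v p) (f 0) * H.h (v p) (f 1) * H.h (v p) (f 2) =
        H.h (v q) (f 0) * H.h (v q) (f 1) * H.h (v q) (f 2) := by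
  have he0 : e 0 ≠ 0 := fun h => by
    have := hf 0 0
    rw [h, H.zero_right, if_pos rfl] at this
    exact zero_ne_one this
  have hμ : μ = 1 := by
    have h := heq (e 0)
    simp only [hev, he, zero_smul, Finset.sum_const_zero, add_zero] at h
    exact smul_left_injective F he0 (h.symm.trans (one_smul F _).symm)
  subst hμ
  simp only [one_smul, add_right_inj] at heq
  have hej : ∀ j, e j = ∑ p, H.h (f j) (v p) • v p := fun j => by
    rw [heq (f j)]
    simp [hf]
  -- the coefficient matrix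
  let M : Matrix (Fin 3) (Fin 3) F := Matrix.of fun j p => H.h (f j) (v p)
  let M' : Matrix (Fin 3) (Fin 3) F := Matrix.of fun p j => H.h (v p) (f j)
  have h1 : M * M' = 1 := by
    ext i j
    have h : H.h (∑ p, H.h (f i) (v p) • v p) (f j) = if i = j then 1 else 0 := by
      rw [← hej i]
      by_cases hij : i = j
      · subst hij; rw [if_pos rfl]; exact H.h_comm_one (by rw [hf, if_pos rfl])
      · rw [if_neg hij]; exact H.h_comm_zero (by rw [hf, if_neg (Ne.symm hij)])
    simp only [Fin.sum_univ_three, H.add_left, H.smul_left] at h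
    rw [Matrix.mul_apply, Matrix.one_apply, Fin.sum_univ_three]
    exact h
  have h2 : M' * M = 1 := mul_eq_one_comm.1 h1
  have hrow : ∀ p q, ∑ j, H.h (v p) (f j) * H.conj (H.h (v q) (f j)) = if p = q then 1 else 0 := by
    intro p q
    have := congrFun (congrFun h2 p) q
    rw [Matrix.mul_apply, Matrix.one_apply] at this
    rw [← this]
    refine Finset.sum_congr rfl fun j _ => ?_
    rw [H.symm']
    rfl
  have hvp : ∀ p, v p = ∑ j, H.h (v p) (f j) • e j := by
    intro p
    calc v p = ∑ q, (M' * M) p q • v q := by simp [h2, Matrix.one_apply, ite_smul]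
      _ = ∑ j, H.h (v p) (f j) • e j := by
          simp only [hej, Finset.smul_sum, Matrix.mul_apply, Finset.sum_smul, smul_smul]
          rw [Finset.sum_comm]
          rfl
  have t := h4.two
  have nrm : ∀ {a : F}, a ≠ 0 → a * H.conj a = 1 := fun {a} ha => by
    rw [h4.conj]
    exact mul_left_cancel₀ ha (by linear_combination h4.quart a)
  have hnz : ∀ p i, H.h (v p) (f i) ≠ 0 := by
    intro p
    have hs := hrow p p
    have hv := hvp p
    rw [if_pos rfl, Fin.sum_univ_three] at hs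
    rw [Fin.sum_univ_three] at hv
    set a := H.h (v p) (f 0)
    set b := H.h (v p) (f 1)
    set c := H.h (v p) (f 2)
    have key : a ≠ 0 ∧ b ≠ 0 ∧ c ≠ 0 := by
      by_cases ha : a = 0 <;> by_cases hb : b = 0 <;> by_cases hc : c = 0
      · rw [ha, hb, hc] at hs; simp at hs
      · exact absurd (by rw [hv, ha, hb]; simp) (hne p 2 c hc)
      · exact absurd (by rw [hv, ha, hc]; simp) (hne p 1 b hb)
      · rw [nrm hb, nrm hc, ha] at hs
        exact absurd (by linear_combination -hs + t : (1 : F) = 0) one_ne_zero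
      · exact absurd (by rw [hv, hb, hc]; simp) (hne p 0 a ha)
      · rw [nrm ha, nrm hc, hb] at hs
        exact absurd (by linear_combination -hs + t : (1 : F) = 0) one_ne_zero
      · rw [nrm ha, nrm hb, hc] at hs
        exact absurd (by linear_combination -hs + t : (1 : F) = 0) one_ne_zero
      · exact ⟨ha, hb, hc⟩
    intro i
    fin_cases i
    · exact key.1
    · exact key.2.1
    · exact key.2.2
  refine fun p => ⟨hnz p, fun q => ?_⟩
  by_cases hpq : p = q
  · rw [hpq]
  have hs := hrow p q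
  rw [if_neg hpq, Fin.sum_univ_three] at hs
  simp only [h4.conj] at hs
  set A₀ := H.h (v p) (f 0)
  set A₁ := H.h (v p) (f 1)
  set A₂ := H.h (v p) (f 2)
  set B₀ := H.h (v q) (f 0)
  set B₁ := H.h (v q) (f 1)
  set B₂ := H.h (v q) (f 2)
  have cube : ∀ {a : F}, a ≠ 0 → a ^ 3 = 1 := fun {a} ha =>
    mul_left_cancel₀ ha (by linear_combination h4.quart a)
  have hx : (A₀ * B₀ ^ 2) ^ 3 = 1 := cube (mul_ne_zero (hnz p 0) (pow_ne_zero _ (hnz q 0)))
  have hy : (A₁ * B₁ ^ 2) ^ 3 = 1 := cube (mul_ne_zero (hnz p 1) (pow_ne_zero _ (hnz q 1)))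
  have hz : (A₂ * B₂ ^ 2) ^ 3 = 1 := cube (mul_ne_zero (hnz p 2) (pow_ne_zero _ (hnz q 2)))
  set x := A₀ * B₀ ^ 2 with hxdef
  set y := A₁ * B₁ ^ 2 with hydef
  set z := A₂ * B₂ ^ 2 with hzdef
  have hxy : x ≠ y := fun h => by
    have : z = 0 := by linear_combination hs + (-x) * t + h
    exact one_ne_zero (by rw [← hz, this]; ring)
  have hq : x ^ 2 + x * y + y ^ 2 = 0 := mul_left_cancel₀ (sub_ne_zero.2 hxy)
    (by linear_combination hx - hy)
  have hprod : x * y * z = 1 := by
    linear_combination x * y * hs - y * hq + hy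
  calc A₀ * A₁ * A₂ = A₀ * B₀ ^ 3 * (A₁ * B₁ ^ 3) * (A₂ * B₂ ^ 3) := by
        rw [cube (hnz q 0), cube (hnz q 1), cube (hnz q 2), mul_one, mul_one, mul_one]
    _ = x * y * z * (B₀ * B₁ * B₂) := by rw [hxdef, hydef, hzdef]; ring
    _ = B₀ * B₁ * B₂ := by rw [hprod, one_mul]

variable {K : Type} [Field K] [Fintype K] (hK : Fintype.card K = 2 ^ 2)

theorem tvPSU_eq_ptv (u : Fin 6 → K) (hu : (stdHerm hK 6).h u u = 0) :
    tvPSU hK u hu = U6.ptv hK u hu := by
  refine congrArg _ (emb_injective hK 6 ?_)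
  rw [emb_tvSU]
  show _ = ((suEquiv hK 6) ((suEquiv hK 6).symm _) : (detHom (stdHerm hK 6)).ker).1
  rw [MulEquiv.apply_symm_apply]

theorem exists_scalar_of_mk_eq {s t : SUg 6 K 2}
    (h : (QuotientGroup.mk s : Cfsg.PSU 6 K 2) = QuotientGroup.mk t) :
    ∃ μ : K, ∀ x, (emb hK 6 t).1 x = μ • (emb hK 6 s).1 x := by
  obtain ⟨μ, hμ⟩ := exists_scalar hK (s := t * s⁻¹)
    (by rw [QuotientGroup.mk_mul, QuotientGroup.mk_inv, h, mul_inv_cancel])
  refine ⟨μ, fun x => ?_⟩
  rw [← hμ, ← CfsgLib.Classical.Herm.mul_apply, ← map_mul, inv_mul_cancel_right]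

/-- Equal transvections have equal forms. -/
theorem form_eq_of_tvPSU_eq {u w : Fin 6 → K} (hu : (stdHerm hK 6).h u u = 0)
    (hw : (stdHerm hK 6).h w w = 0) (hu0 : u ≠ 0) (h : tvPSU hK u hu = tvPSU hK w hw)
    (y z : Fin 6 → K) :
    (stdHerm hK 6).h y w * (stdHerm hK 6).h w z = (stdHerm hK 6).h y u * (stdHerm hK 6).h u z := by
  obtain ⟨μ, hμ⟩ := exists_scalar_of_mk_eq hK h
  simp only [emb_tvSU, tv_apply] at hμ
  have huw : (stdHerm hK 6).h u w = 0 := U6.orth_of_commute_ptv hK hw hu hu0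
    (by rw [← tvPSU_eq_ptv, ← tvPSU_eq_ptv, h])
  have h1 := hμ u
  rw [huw, hu, zero_smul, zero_smul, add_zero] at h1
  have hμ1 : μ = 1 := smul_left_injective K hu0 (h1.symm.trans (one_smul K _).symm)
  have h2 := hμ y
  rw [hμ1, one_smul, add_right_inj] at h2
  have h3 := congrArg (fun x => (stdHerm hK 6).h x z) h2
  simpa only [(stdHerm hK 6).smul_left] using h3

end CfsgLib.FischerCent
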