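import Cfsg.Agent.Lib.FischerUnique.Simple
import Cfsg.Agent.Lib.FischerUnique.UnitaryBase
import Cfsg.Agent.Lib.FischerCent.Aut
import Cfsg.Agent.Lib.FischerCent.Frame
import Cfsg.Agent.Lib.AutPSU.Central

set_option autoImplicit false

/-! In type M(22) an automorphism fixing a member acts on its link without a diagonal part. -/

namespace CfsgLib.FischerCent

open Subgroup
open CfsgLib.ThreeTrans (link inv_eq conj_self_of_commute)
open CfsgLib.FischerType CfsgLib.FischerUnique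
open CfsgLib.Classical.Herm HermSpace CfsgLib.UnitaryTransv
open CfsgLib.AutPSU (SUg GUg uMat simAut fieldAut suGU guMap detN)

variable {F : Type} [Field F] [Fintype F] (hF : Fintype.card F = 2 ^ 2)

/-- The diagonal isometry. -/
theorem exists_diag {c : F} (hc : c ^ 3 = 1) :
    ∃ g : GUg 6 F 2, uMat g = Matrix.diagonal ![1, 1, 1, 1, c, c] := by
  have hdet : (Matrix.diagonal ![1, 1, 1, 1, c, c] : Matrix (Fin 6) (Fin 6) F).det ≠ 0 := by
    simp [Matrix.det_diagonal, Fin.prod_univ_succ]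
    intro h; simp [h] at hc
  refine ⟨⟨Matrix.GeneralLinearGroup.mkOfDetNeZero _ hdet, fun u v => ?_⟩, rfl⟩
  show Cfsg.hermForm 6 F 2 ((Matrix.diagonal ![1, 1, 1, 1, c, c]).mulVec u)
    ((Matrix.diagonal ![1, 1, 1, 1, c, c]).mulVec v) = _
  simp [Cfsg.hermForm, Matrix.mulVec_diagonal, Fin.sum_univ_succ]
  linear_combination (u 4 * v 4 ^ 2 + u 5 * v 5 ^ 2) * hc

/-- An automorphism of a cube root of an inner one is linear. -/
theorem field_trivial {β : MulAut (Cfsg.PSU 6 F 2)} {z : Cfsg.PSU 6 F 2} (hF : Fintype.card F = 2 ^ 2)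
    (h3 : β ^ 3 = MulAut.conj z) : ∃ g : GUg 6 F 2, β = simAut g := by
  have hs : ¬ ((6 : ℕ) = 3 ∧ 2 = 2) := by norm_num
  obtain ⟨g, σ, rfl⟩ := CfsgLib.AutPSU.aut_decomposition hF (by norm_num) hs β
  obtain ⟨s, rfl⟩ := QuotientGroup.mk_surjective z
  have hσ : σ * (σ * σ) = 1 := by
    have h : (simAut (g * guMap σ (g * guMap σ g)) * fieldAut (σ * (σ * σ)) : MulAut (Cfsg.PSU 6 F 2)) =
        simAut (suGU s) * fieldAut 1 := by
      rw [map_one, mul_one, CfsgLib.AutPSU.simAut_suGU, ← h3]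
      simp only [pow_succ, pow_zero, one_mul, map_mul, mul_assoc]
      simp only [← mul_assoc (fieldAut σ) (simAut _), CfsgLib.AutPSU.fieldAut_simAut, map_mul, mul_assoc]
    exact (CfsgLib.AutPSU.semilinear_inj hF (by norm_num) hs h).2
  have hσ1 : σ = 1 := by
    refine RingEquiv.ext fun a => ?_
    have h4 : ∀ b : F, b * b * b * b = b := fun b => by
      have := FiniteField.pow_card b; rw [hF] at this; linear_combination this
    have happ : σ (σ (σ a)) = a := RingEquiv.congr_fun hσ a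
    show σ a = a
    by_cases ha : a = 0
    · simp [ha]
    by_cases ha1 : a = 1
    · simp [ha1]
    have t := two_eq_zero hF
    have root : ∀ {b : F}, b ≠ 0 → b ≠ 1 → b * b + b + 1 = 0 := fun {b} h0 h1 =>
      mul_left_cancel₀ (mul_ne_zero h0 (sub_ne_zero.2 h1)) (by linear_combination h4 b)
    have hr := root ha ha1
    have hσa := root (b := σ a) (fun h => ha (by simpa using h))
      (fun h => ha1 (σ.injective (by simpa using h)))
    have hcase : (σ a - a) * (σ a - (a + 1)) = 0 := by linear_combination hσa + hr - (σ a * a + σ a + 1) * t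
    rcases mul_eq_zero.1 hcase with h | h
    · exact sub_eq_zero.1 h
    · rw [sub_eq_zero.1 h, map_add, map_one, sub_eq_zero.1 h, map_add, map_add, map_one,
        sub_eq_zero.1 h] at happ
      exact absurd (by linear_combination happ - t : (1 : F) = 0) one_ne_zero
  subst hσ1
  exact ⟨g, by rw [map_one, mul_one]⟩

theorem tvPSU_zero (h : (stdHerm hF 6).h 0 0 = 0) : tvPSU hF 0 h = 1 := by
  rw [tvPSU, show tvSU hF 0 h = 1 from emb_injective hF 6 (unit_ext fun x => by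
    rw [emb_tvSU, tv_apply, map_one, one_apply, smul_zero, add_zero]), QuotientGroup.mk_one]

theorem tvPSU_smul {c : F} (hc : c ≠ 0) {u : Fin 6 → F} (hu : (stdHerm hF 6).h u u = 0)
    (hcu : (stdHerm hF 6).h (c • u) (c • u) = 0) : tvPSU hF (c • u) hcu = tvPSU hF u hu := by
  refine congrArg _ (emb_injective hF 6 (unit_ext fun x => ?_))
  rw [emb_tvSU, emb_tvSU, tv_apply, tv_apply, (stdHerm hF 6).smul_right, (four hF).conj, smul_smul,
    show c ^ 2 * (stdHerm hF 6).h x u * c = (stdHerm hF 6).h x u by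
      linear_combination (stdHerm hF 6).h x u * CfsgLib.UnitaryTransv.pow_three hF hc]

theorem emb_three {u v w : Fin 6 → F} (hu : (stdHerm hF 6).h u u = 0) (hv : (stdHerm hF 6).h v v = 0)
    (hw : (stdHerm hF 6).h w w = 0) (huv : (stdHerm hF 6).h v u = 0) (huw : (stdHerm hF 6).h w u = 0)
    (hvw : (stdHerm hF 6).h w v = 0) (x : Fin 6 → F) :
    (emb hF 6 (tvSU hF u hu * tvSU hF v hv * tvSU hF w hw)).1 x =
      x + ∑ i, (stdHerm hF 6).h x (![u, v, w] i) • ![u, v, w] i := by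
  rw [map_mul, map_mul, emb_tvSU, emb_tvSU, emb_tvSU, CfsgLib.Classical.Herm.mul_apply,
    CfsgLib.Classical.Herm.mul_apply, tv_apply, tv_apply, tv_apply, Fin.sum_univ_three]
  simp only [(stdHerm hF 6).add_left, (stdHerm hF 6).smul_left, huv, huw, hvw, mul_zero, add_zero]
  simp only [Matrix.cons_val_zero, Matrix.cons_val_one, Matrix.cons_val_two, Matrix.head_cons,
    Matrix.tail_cons]
  abel

variable {G : Type*} [Group G] [Finite G] {D : Set G} (S : Setting D)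

include S

set_option maxHeartbeats 1600000 in
/-- In type M(22) automorphisms with inner cube act on the link as inner ones. -/
theorem innerOnLink_of_typeM22 (h : Cfsg.IsOfTypeM22 G D) : ∃ d ∈ D, InnerOnLink D d := by
  obtain ⟨d, hd, hpair, SX, K, i1, i2, hK4, ⟨e⟩⟩ := exists_data_of_typeM22 S h
  refine ⟨d, hd, fun ε hpres hfix v hv h3 => ?_⟩
  have hK : Fintype.card K = 2 ^ 2 := hK4.trans (by norm_num)
  have hdH : d ∈ closure (link D d) := (link_group_of_typeM22 S h hd).1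
  set H := closure (link D d) with hH
  have hn := S.noCentral hd hpair
  have hset := S.cls.1
  obtain ⟨eb, -, himg, hb3⟩ := exists_imgAut ε hpres hfix hv h3
  let β : MulAut (Cfsg.PSU 6 K 2) := e.symm.trans (eb.trans e)
  have hβ : ∀ z, β (e z) = e (eb z) := fun z => by
    show e (eb (e.symm (e z))) = _
    rw [e.symm_apply_apply]
  obtain ⟨g, hg⟩ := field_trivial hK (β := β) (z := e (QuotientGroup.mk ⟨v, hv⟩)) (by
    refine MulEquiv.ext fun z => ?_
    obtain ⟨y, rfl⟩ := e.surjective z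
    rw [pow_succ, pow_two, MulAut.mul_apply, MulAut.mul_apply, hβ, hβ, hβ, MulAut.conj_apply,
      ← map_inv, ← map_mul, ← map_mul, ← MulAut.mul_apply, ← MulAut.mul_apply, ← pow_two, ← pow_succ,
      hb3]
    rfl)
  -- split off the determinant
  set δ : K := (uMat g).det with hδ
  have hδ0 : δ ≠ 0 := ((Matrix.isUnit_iff_isUnit_det _).1 g.1.isUnit).ne_zero
  set c := δ ^ 2 with hc
  have hc3 : c ^ 3 = 1 := CfsgLib.UnitaryTransv.pow_three hK (pow_ne_zero _ hδ0)
  obtain ⟨Dc, hDc⟩ := exists_diag hc3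
  have hdetN : detN hK (g * Dc⁻¹) = 1 := by
    rw [map_mul, map_inv, mul_inv_eq_one]
    refine Subtype.ext (Units.ext ?_)
    rw [CfsgLib.AutPSU.detN_coe, CfsgLib.AutPSU.detN_coe, hDc, ← hδ, Matrix.det_diagonal]
    simp [Fin.prod_univ_succ]
    rw [hc]
    linear_combination (-δ) * CfsgLib.UnitaryTransv.pow_three hK hδ0
  obtain ⟨s, hs⟩ := CfsgLib.AutPSU.exists_suGU hK hdetN
  obtain ⟨q₀, hq₀⟩ := e.surjective (QuotientGroup.mk s)
  obtain ⟨⟨k, hk⟩, rfl⟩ := QuotientGroup.mk_surjective q₀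
  set ε' : MulAut G := MulAut.conj k⁻¹ * ε with hε'
  have happ : ∀ x, ε' x = k⁻¹ * ε x * k⁻¹⁻¹ := fun x => rfl
  have hkd : Commute k d := mem_centralizer_singleton_iff.1 (closure_link_le_centralizer hk)
  have hpres' : ∀ x ∈ D, ε' x ∈ D := fun x hx =>
    (happ x).symm ▸ CfsgLib.ThreeTransp.class_conj_mem S.cls _ (hpres x hx)
  have hfix' : ε' d = d := by rw [happ, hfix]; exact conj_self_of_commute hkd.inv_left
  have hact : ∀ (w : G) (hw : w ∈ link D d),
      e (toImg D d (map_mem_link ε' hpres' hfix' hw)) = simAut Dc (e (toImg D d hw)) := by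
    intro w hw
    have e1 : toImg D d (map_mem_link ε' hpres' hfix' hw) =
        (QuotientGroup.mk (⟨k, hk⟩ : ↥H))⁻¹ * toImg D d (map_mem_link ε hpres hfix hw) *
          QuotientGroup.mk (⟨k, hk⟩ : ↥H) := by
      rw [← QuotientGroup.mk_inv, ← QuotientGroup.mk_mul, ← QuotientGroup.mk_mul]
      refine congrArg _ (Subtype.ext ?_)
      show ε' w = _
      rw [happ, inv_inv]
      rfl
    rw [e1, ← himg w hw, map_mul, map_mul, map_inv, hq₀, ← hβ, hg,
      show g = suGU s * Dc by rw [hs, inv_mul_cancel_right], map_mul, CfsgLib.AutPSU.simAut_suGU,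
      MulAut.mul_apply, MulAut.conj_apply]
    group
  suffices hc1 : c = 1 by
    refine ⟨k, hk, fun w hw => ?_⟩
    have hDc1 : Dc = 1 := CfsgLib.AutPSU.gu_ext (by
      rw [hDc, hc1]; ext i j; fin_cases i <;> fin_cases j <;> rfl)
    have h1 := hact w hw
    rw [hDc1, map_one, MulAut.one_apply] at h1
    have h2 := eq_of_toImg hset hn (map_mem_link ε' hpres' hfix' hw) hw (e.injective h1)
    rw [happ] at h2
    calc ε w = k * (k⁻¹ * ε w * k⁻¹⁻¹) * k⁻¹ := by group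
      _ = k * w * k⁻¹ := by rw [h2]
  -- a triangle of the link
  set E : Fin 3 → Fin 6 → K :=
    ![![1, 1, 0, 0, 0, 0], ![0, 0, 1, 1, 0, 0], ![0, 0, 0, 0, 1, 1]] with hEdef
  set f : Fin 3 → Fin 6 → K :=
    ![![1, 0, 0, 0, 0, 0], ![0, 0, 1, 0, 0, 0], ![0, 0, 0, 0, 1, 0]] with hfdef
  set 𝓗 := stdHerm hK 6 with h𝓗
  have hEE : ∀ i j, 𝓗.h (E i) (E j) = 0 := fun i j => by
    rw [h𝓗, U6.h_six]
    fin_cases i <;> fin_cases j <;> simp [hEdef, add_self_zero hK]
  have hfE : ∀ i j, 𝓗.h (f i) (E j) = if i = j then 1 else 0 := fun i j => by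
    rw [h𝓗, U6.h_six]
    fin_cases i <;> fin_cases j <;> simp [hEdef, hfdef]
  have hE0 : ∀ i, E i ≠ 0 := fun i h => by
    have := hfE i i
    rw [h, 𝓗.zero_right, if_pos rfl] at this
    exact zero_ne_one this
  have hclass := U6.eq_tv_class hK (class_image e (S.imgClass hd hpair))
  have up : ∀ i, ∃ (w : G) (hw : w ∈ link D d), e (toImg D d hw) = tvPSU hK (E i) (hEE i i) := by
    intro i
    have h1 : tvPSU hK (E i) (hEE i i) ∈ e '' img D d := by
      rw [hclass, tvPSU_eq_ptv]; exact ⟨E i, hEE i i, hE0 i, rfl⟩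
    obtain ⟨q, hq, hqe⟩ := h1
    obtain ⟨w, hw, rfl⟩ := exists_toImg hq
    exact ⟨w, hw, hqe⟩
  choose a ha hae using up
  have cab : ∀ i j, Commute (a i) (a j) := fun i j => commute_of_toImg hset (ha i) (ha j)
    ((commute_map_iff e.injective).1 (by
      rw [hae, hae, tvPSU_eq_ptv, tvPSU_eq_ptv]; exact U6.commute_ptv hK _ _ (hEE j i)))
  have nab : ∀ i j, i ≠ j → a i ≠ a j := by
    intro i j hij h
    have h1 : tvPSU hK (E i) (hEE i i) = tvPSU hK (E j) (hEE j j) := by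
      rw [← hae, ← hae]; congr 2
    have h2 := form_eq_of_tvPSU_eq hK _ _ (hE0 i) h1 (f i) (f i)
    rw [hfE i i, if_pos rfl, hfE i j, if_neg hij, zero_mul, 𝓗.h_comm_one (by rw [hfE, if_pos rfl]), one_mul] at h2
    exact zero_ne_one h2
  have la : ∀ i, i ≠ 0 → a i ∈ link D (a 0) := fun i hi => ⟨(ha i).1, nab i 0 hi, cab 0 i⟩
  obtain ⟨p, q, r, hpq, hpr, hqr, hR, hprod⟩ := S.exists_partner hd hpair SX hK4 e (ha 0).1
    (la 1 (by decide)) (la 2 (by decide)) ⟨(ha 2).1, nab 2 1 (by decide), cab 1 2⟩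
  set pp : Fin 3 → G := ![p, q, r] with hppdef
  have hppR : ∀ j, pp j ∈ radical D (a 0) (a 1) (a 2) := fun j => by
    rw [hR]; fin_cases j <;> simp [hppdef]
  have hda : ∀ i, d ∈ link D (a i) := fun i => ⟨hd, (ha i).2.1.symm, (ha i).2.2.symm⟩
  have hpd : ∀ j, Commute (pp j) d := fun j => (hppR j).2 d ⟨⟨hda 0, hda 1⟩, hda 2⟩
  have hpa : ∀ j i, pp j ∈ link D (a i) := fun j i => by
    obtain ⟨⟨h0, h1⟩, h2⟩ := (hppR j).1
    fin_cases i
    · exact h0
    · exact h1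
    · exact h2
  have hpH : ∀ j, pp j ∈ H := fun j => by
    by_cases h : pp j = d
    · rw [h]; exact hdH
    · exact subset_closure ⟨(hpa j 0).1, h, (hpd j).symm⟩
  have hvec : ∀ j, ∃ (u : Fin 6 → K) (hu : 𝓗.h u u = 0),
      e (QuotientGroup.mk (⟨pp j, hpH j⟩ : ↥H)) = tvPSU hK u hu ∧ (pp j = d → u = 0) ∧
        (pp j ≠ d → u ≠ 0) := by
    intro j
    by_cases hj : pp j = d
    · refine ⟨0, 𝓗.zero_left _, ?_, fun _ => rfl, fun h => absurd hj h⟩
      rw [tvPSU_zero]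
      refine (congrArg e ?_).trans (map_one e)
      refine (QuotientGroup.eq_one_iff _).2 (mem_center_iff.2 fun x => Subtype.ext ?_)
      show (x : G) * pp j = pp j * x
      rw [hj]
      exact mem_centralizer_singleton_iff.1 (closure_link_le_centralizer x.2)
    · have hl : pp j ∈ link D d := ⟨(hpa j 0).1, hj, (hpd j).symm⟩
      have h1 : e (toImg D d hl) ∈ e '' img D d := ⟨_, toImg_mem hl, rfl⟩
      rw [hclass] at h1
      obtain ⟨u, hu, hu0, hue⟩ := h1
      exact ⟨u, hu, (hue.symm.trans (tvPSU_eq_ptv hK u hu).symm), fun h => absurd h hj, fun _ => hu0⟩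
  choose V hV hVe hVd hVn using hvec
  have horth : ∀ i j, 𝓗.h (E i) (V j) = 0 := by
    intro i j
    refine U6.orth_of_commute_ptv hK (hV j) (hEE i i) (hE0 i) ?_
    rw [← tvPSU_eq_ptv, ← tvPSU_eq_ptv, ← hVe, ← hae]
    refine Commute.map ?_ e
    exact congrArg (QuotientGroup.mk : ↥H → Quot D d)
      (Subtype.ext (hpa j i).2.2.symm.eq :
        (⟨pp j, hpH j⟩ * ⟨a i, subset_closure (ha i)⟩ : ↥H) = ⟨a i, subset_closure (ha i)⟩ * ⟨pp j, hpH j⟩)
  have cpp : ∀ i j, Commute (pp i) (pp j) := by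
    intro i j
    by_cases hij : pp i = pp j
    · rw [hij]
    · exact (hppR i).2 _ (hppR j).1
  have hVV : ∀ i j, 𝓗.h (V i) (V j) = 0 := by
    intro i j
    by_cases h0 : V i = 0
    · rw [h0, 𝓗.zero_left]
    refine U6.orth_of_commute_ptv hK (hV j) (hV i) h0 ?_
    rw [← tvPSU_eq_ptv, ← tvPSU_eq_ptv, ← hVe, ← hVe]
    refine Commute.map ?_ e
    exact congrArg (QuotientGroup.mk : ↥H → Quot D d)
      (Subtype.ext (cpp j i).eq :
        (⟨pp j, hpH j⟩ * ⟨pp i, hpH i⟩ : ↥H) = ⟨pp i, hpH i⟩ * ⟨pp j, hpH j⟩)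
  obtain ⟨μ, hμ⟩ := exists_scalar_of_mk_eq hK
    (s := tvSU hK (E 0) (hEE 0 0) * tvSU hK (E 1) (hEE 1 1) * tvSU hK (E 2) (hEE 2 2))
    (t := tvSU hK (V 0) (hV 0) * tvSU hK (V 1) (hV 1) * tvSU hK (V 2) (hV 2)) (by
      simp only [QuotientGroup.mk_mul]
      show tvPSU hK _ _ * tvPSU hK _ _ * tvPSU hK _ _ = tvPSU hK _ _ * tvPSU hK _ _ * tvPSU hK _ _
      rw [← hae, ← hae, ← hae, ← hVe, ← hVe, ← hVe, ← map_mul, ← map_mul, ← map_mul, ← map_mul]
      refine congrArg e ?_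
      show (QuotientGroup.mk (⟨a 0, subset_closure (ha 0)⟩ * ⟨a 1, subset_closure (ha 1)⟩ *
        ⟨a 2, subset_closure (ha 2)⟩ : ↥H) : Quot D d) = QuotientGroup.mk (⟨pp 0, hpH 0⟩ *
        ⟨pp 1, hpH 1⟩ * ⟨pp 2, hpH 2⟩)
      exact congrArg _ (Subtype.ext hprod.symm))
  have hrw : ∀ (T : Fin 3 → Fin 6 → K), ![T 0, T 1, T 2] = T := fun T => by
    funext i; fin_cases i <;> rfl
  have heq : ∀ x, x + ∑ j, 𝓗.h x (V j) • V j = μ • (x + ∑ i, 𝓗.h x (E i) • E i) := by
    intro x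
    have h1 := hμ x
    rw [emb_three hK _ _ _ (hEE 1 0) (hEE 2 0) (hEE 2 1),
      emb_three hK _ _ _ (hVV 1 0) (hVV 2 0) (hVV 2 1), hrw V, hrw E] at h1
    exact h1
  have hne : ∀ j i (l : K), l ≠ 0 → V j ≠ l • E i := by
    intro j i l hl hVl
    by_cases hj : pp j = d
    · exact hE0 i ((smul_eq_zero.1 (hVl.symm.trans (hVd j hj))).resolve_left hl)
    · have hlk : pp j ∈ link D d := ⟨(hpa j 0).1, hj, (hpd j).symm⟩
      refine (hpa j i).2.1 (eq_of_toImg hset hn hlk (ha i) (e.injective ?_))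
      rw [hae, show e (toImg D d hlk) = _ from hVe j]
      have hcu : 𝓗.h (l • E i) (l • E i) = 0 := hVl ▸ hV j
      rw [← tvPSU_smul hK hl (hEE i i) hcu]
      congr 1
  have hframe := frame_product (four hK) E f V hEE hfE horth hne μ heq
  have hnd : ∀ j, pp j ≠ d := fun j hj => (hframe j).1 0 (by rw [hVd j hj, 𝓗.zero_left])
  -- the diagonal element permutes the frames
  have fixa : ∀ i, ε' (a i) = a i := by
    intro i
    refine eq_of_toImg hset hn (map_mem_link ε' hpres' hfix' (ha i)) (ha i) (e.injective ?_)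
    rw [hact _ (ha i), hae]
    obtain ⟨hv', h1⟩ := follows_semilinear hK Dc (RingEquiv.refl K) (E i) (hEE i i)
    rw [show (fieldAut (RingEquiv.refl K) : MulAut (Cfsg.PSU 6 K 2)) = 1 from map_one _, mul_one] at h1
    rw [h1]
    have hl : (CfsgLib.AutPSU.stdSemi hK Dc (RingEquiv.refl K)).M (E i) =
        (![1, 1, c] : Fin 3 → K) i • E i := by
      rw [CfsgLib.AutPSU.stdSemi_M, hDc]
      funext n
      rw [Matrix.mulVec_diagonal]
      fin_cases i <;> fin_cases n <;> simp [hEdef]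
    have hl0 : (![1, 1, c] : Fin 3 → K) i ≠ 0 := by
      fin_cases i <;> simp [hc, hδ0]
    rw [← tvPSU_smul hK hl0 (hEE i i) (hl ▸ hv')]
    congr 1
  have himgD : ε' '' D = D :=
    Set.eq_of_subset_of_ncard_le (by rintro _ ⟨x, hx, rfl⟩; exact hpres' x hx)
      (Set.ncard_image_of_injective _ ε'.injective).ge (Set.toFinite _)
  have hrad : ε' (pp 0) ∈ radical D (a 0) (a 1) (a 2) := by
    have mv : ∀ {x : G} i, x ∈ link D (a i) → ε' x ∈ link D (a i) := fun i hx =>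
      map_mem_link ε' hpres' (fixa i) hx
    obtain ⟨⟨⟨h0, h1⟩, h2⟩, hall⟩ := hppR 0
    refine ⟨⟨⟨mv 0 h0, mv 1 h1⟩, mv 2 h2⟩, ?_⟩
    rintro z ⟨⟨hz0, hz1⟩, hz2⟩
    obtain ⟨z', hz', rfl⟩ := himgD.symm ▸ hz0.1
    have back : ∀ i, ε' z' ∈ link D (a i) → z' ∈ link D (a i) := fun i hz =>
      ⟨hz', fun h => hz.2.1 (by rw [h, fixa]),
        (commute_map_iff ε'.injective).1 (by rw [fixa]; exact hz.2.2)⟩
    exact (hall z' ⟨⟨back 0 hz0, back 1 hz1⟩, back 2 hz2⟩).map ε'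
  rw [hR] at hrad
  obtain ⟨j, hj⟩ : ∃ j, ε' (pp 0) = pp j := by
    rcases hrad with h | h | h
    · exact ⟨0, h⟩
    · exact ⟨1, h⟩
    · exact ⟨2, h⟩
  have hl0 : pp 0 ∈ link D d := ⟨(hpa 0 0).1, hnd 0, (hpd 0).symm⟩
  obtain ⟨hv', h1⟩ := follows_semilinear hK Dc (RingEquiv.refl K) (V 0) (hV 0)
  rw [show (fieldAut (RingEquiv.refl K) : MulAut (Cfsg.PSU 6 K 2)) = 1 from map_one _, mul_one] at h1
  set u := (CfsgLib.AutPSU.stdSemi hK Dc (RingEquiv.refl K)).M (V 0) with hu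
  have hu0 : u ≠ 0 := (map_ne_zero_iff _ (AddEquiv.injective _)).2 (hVn 0 (hnd 0))
  have heqT : tvPSU hK u hv' = tvPSU hK (V j) (hV j) := by
    rw [← h1, ← hVe 0, ← hVe j]
    show simAut Dc (e (toImg D d hl0)) = _
    rw [← hact _ hl0]
    exact congrArg e (congrArg _ (Subtype.ext hj))
  set A : Fin 3 → K := fun i => 𝓗.h (V 0) (f i) with hA
  have hAu : ∀ i, 𝓗.h u (f i) = (![1, 1, c] : Fin 3 → K) i * A i := by
    intro i
    rw [hu, CfsgLib.AutPSU.stdSemi_M, hDc]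
    simp only [hA, h𝓗, U6.h_six]
    fin_cases i <;> simp [hfdef, Matrix.mulVec_diagonal]
  have hform : ∀ i, 𝓗.conj (𝓗.h (V j) (f 0)) * 𝓗.h (V j) (f i) =
      𝓗.conj (𝓗.h u (f 0)) * 𝓗.h u (f i) := fun i => by
    rw [𝓗.symm', 𝓗.symm']
    exact form_eq_of_tvPSU_eq hK hv' (hV j) hu0 heqT (f 0) (f i)
  have k1 := hform 1
  have k2 := hform 2
  have h4c : ∀ z, 𝓗.conj z = z ^ 2 := (four hK).conj
  simp only [h4c, hAu, Matrix.cons_val_zero, Matrix.cons_val_one, Matrix.cons_val_two,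
    Matrix.head_cons, Matrix.tail_cons, one_mul] at k1 k2
  have hP := (hframe 0).2 j
  have hA' : A 0 * A 1 * A 2 ≠ 0 :=
    mul_ne_zero (mul_ne_zero ((hframe 0).1 0) ((hframe 0).1 1)) ((hframe 0).1 2)
  set B₀ := 𝓗.h (V j) (f 0)
  set B₁ := 𝓗.h (V j) (f 1)
  set B₂ := 𝓗.h (V j) (f 2)
  have q1 := (four hK).quart B₀
  have q2 := (four hK).quart (A 0)
  have h5 : c * (A 0 * A 1 * A 2) = B₀ * B₁ * B₂ := by
    calc c * (A 0 * A 1 * A 2) = (A 0 ^ 2 * A 1) * (A 0 ^ 2 * (c * A 2)) := by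
          linear_combination (-(c * A 1 * A 2)) * q2
      _ = (B₀ ^ 2 * B₁) * (B₀ ^ 2 * B₂) := by rw [k1, k2]
      _ = _ := by linear_combination (B₁ * B₂) * q1
  refine mul_right_cancel₀ hA' ?_
  rw [one_mul, h5]
  exact hP.symm

end CfsgLib.FischerCent
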